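import Mathlib
import Groth.Agent.PBasisLib.Field

/-!
Artinian local algebras over a field of characteristic `p` whose residue field has finite first
cotangent homology are defined over finitely generated fields: coefficient fields adapted to a
`p`-basis of the ground field.
-/

set_option autoImplicit false
set_option linter.style.haveILetI false
set_option linter.unusedSimpArgs false

universe u

namespace Groth.Agent.ArtinDef

open Groth.Agent.PBasisLib TensorProduct IsLocalRing

variable (p : ℕ) [Fact p.Prime]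

theorem exists_natCast_eq (P : Type u) [CommRing P] (e : ULift.{u} (ZMod p) ≃+* P) (c : P) : ∃ n : ℕ, (n : P) = c := by
  refine ⟨(e.symm c).down.val, ?_⟩
  have : ((e.symm c).down.val : ULift.{u} (ZMod p)) = e.symm c := ULift.ext _ _ (ZMod.natCast_zmod_val _)
  calc ((e.symm c).down.val : P) = e ((e.symm c).down.val : ULift.{u} (ZMod p)) := (map_natCast e _).symm
    _ = c := by rw [this, e.apply_symm_apply]

/-- The dual derivation of an element of a `p`-basis. -/
theorem exists_derivation {k : Type u} [Field k] [CharP k p] [Algebra (ULift.{u} (ZMod p)) k] (B : Set k)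
    (hB : Indep p (ULift.{u} (ZMod p)) B) (hgen : ∀ x : k, x ∈ F p (ULift.{u} (ZMod p)) B) (b : k) (hb : b ∈ B) :
    ∃ D : Derivation (ULift.{u} (ZMod p)) k k, D b = 1 ∧ ∀ c ∈ B, c ≠ b → D c = 0 := by
  classical
  have hx : EGA41.IsPBasis p (ULift.{u} (ZMod p)) (Subtype.val : B → k) :=
    ⟨(isPIndependent_set_iff B).mpr hB, (isPGenerating_iff _).mpr (by rw [Subtype.range_coe]; exact hgen)⟩
  let φ : EGA41.pPowerSubalgebra p (ULift.{u} (ZMod p)) k →+* TrivSqZeroExt k k :=
    (TrivSqZeroExt.inlHom k k).comp (Subalgebra.val _).toRingHom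
  let t : B → TrivSqZeroExt k k := fun i => TrivSqZeroExt.inl (i : k) + TrivSqZeroExt.inr (if (i : k) = b then 1 else 0)
  obtain ⟨ψ, hψC, hψB⟩ := PBasisLib.exists_lift (Fact.out : p.Prime).pos hx φ t (fun i => by
    refine TrivSqZeroExt.ext ?_ ?_
    · simp only [t, φ, TrivSqZeroExt.fst_pow, TrivSqZeroExt.fst_add, TrivSqZeroExt.fst_inl, TrivSqZeroExt.fst_inr, add_zero]
      rfl
    · rw [TrivSqZeroExt.snd_pow, ← Nat.cast_smul_eq_nsmul k, CharP.cast_eq_zero k p, zero_smul]
      simp [φ])
  have hfst : (TrivSqZeroExt.fstHom k k k).toRingHom.comp ψ = RingHom.id k := by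
    refine PBasisLib.hom_ext (Fact.out : p.Prime).pos hx.2 (fun a => ?_) fun i => ?_
    · change (ψ a).fst = (a : k)
      rw [hψC]
      rfl
    · change (ψ i).fst = (i : k)
      rw [hψB]
      simp only [t, TrivSqZeroExt.fst_add, TrivSqZeroExt.fst_inl, TrivSqZeroExt.fst_inr, add_zero]
  have hf : ∀ x, (ψ x).fst = x := fun x => RingHom.congr_fun hfst x
  have hP : ∀ c : ULift.{u} (ZMod p), (ψ (algebraMap (ULift.{u} (ZMod p)) k c)).snd = 0 := fun c => by
    obtain ⟨n, rfl⟩ := exists_natCast_eq p (ULift.{u} (ZMod p)) (RingEquiv.refl _) c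
    rw [map_natCast, map_natCast]
    exact TrivSqZeroExt.snd_natCast n
  let D : Derivation (ULift.{u} (ZMod p)) k k := Derivation.mk'
    { toFun := fun x => (ψ x).snd
      map_add' := fun x y => by rw [map_add, TrivSqZeroExt.snd_add]
      map_smul' := fun c x => by
        rw [Algebra.smul_def, map_mul, TrivSqZeroExt.snd_mul, hP, hf, RingHom.id_apply]
        simp [Algebra.smul_def] }
    (fun x y => by
      change (ψ (x * y)).snd = _
      rw [map_mul, TrivSqZeroExt.snd_mul, hf, hf]
      simp [mul_comm])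
  refine ⟨D, ?_, fun c hc hne => ?_⟩
  · change (ψ b).snd = 1
    rw [hψB ⟨b, hb⟩]
    simp only [t, TrivSqZeroExt.snd_add, TrivSqZeroExt.snd_inl, TrivSqZeroExt.snd_inr, if_true, zero_add]
  · change (ψ c).snd = 0
    rw [hψB ⟨c, hc⟩]
    simp [t, hne]

/-- All but finitely many members of a `p`-basis stay independent when `H¹` is finite. -/
theorem exists_cofinite_indep {k K : Type u} [Field k] [CharP k p] [Field K] [CharP K p]
    [Algebra (ULift.{u} (ZMod p)) k] [Algebra (ULift.{u} (ZMod p)) K] [Algebra k K]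
    [IsScalarTower (ULift.{u} (ZMod p)) k K] (hH : Module.Finite K (Algebra.H1Cotangent k K)) :
    ∃ (B : Set k) (T : Finset k), (∀ x : k, x ∈ F p (ULift.{u} (ZMod p)) B) ∧
      Indep p (ULift.{u} (ZMod p)) (algebraMap k K '' (B \ (T : Set k))) := by
  classical
  obtain ⟨B, -, -, hB, hgen⟩ := PBasisLib.exists_maximal (p := p) (k := ULift.{u} (ZMod p)) (K := k)
    (Set.empty_subset (Set.univ : Set k)) (fun a ha => absurd ha (Set.notMem_empty a))
  have hgen' : ∀ x : k, x ∈ F p (ULift.{u} (ZMod p)) B := fun x => hgen (Set.mem_univ x)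
  haveI := hH
  let W := K ⊗[k] Ω[k⁄ULift.{u} (ZMod p)]
  let g : k → W := fun b => 1 ⊗ₜ[k] KaehlerDifferential.D (ULift.{u} (ZMod p)) k b
  let mb := KaehlerDifferential.mapBaseChange (ULift.{u} (ZMod p)) k K
  have hker : (LinearMap.ker mb).FG := by
    have h : LinearMap.range (Algebra.H1Cotangent.δ (ULift.{u} (ZMod p)) k K) = LinearMap.ker mb :=
      (LinearMap.exact_iff.mp (Algebra.H1Cotangent.exact_δ_mapBaseChange (ULift.{u} (ZMod p)) k K)).symm
    rw [← h, ← Submodule.map_top]
    exact Module.Finite.fg_top.map _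
  have htop : ∀ w : W, w ∈ Submodule.span K (g '' B) := by
    intro w
    induction w using TensorProduct.induction_on with
    | zero => exact zero_mem _
    | add x y hx hy => exact add_mem hx hy
    | tmul a ω =>
      have hω : ω ∈ Submodule.span k (Set.range (KaehlerDifferential.D (ULift.{u} (ZMod p)) k)) := by
        rw [KaehlerDifferential.span_range_derivation]; trivial
      have key : ∀ ω ∈ Submodule.span k (KaehlerDifferential.D (ULift.{u} (ZMod p)) k '' B),
          (1 : K) ⊗ₜ[k] ω ∈ Submodule.span K (g '' B) := by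
        intro ω hω
        induction hω using Submodule.span_induction with
        | mem x hx => obtain ⟨c, hc, rfl⟩ := hx; exact Submodule.subset_span ⟨c, hc, rfl⟩
        | zero => rw [tmul_zero]; exact zero_mem _
        | add x y _ _ hx hy => rw [tmul_add]; exact add_mem hx hy
        | smul c x _ hx => rw [tmul_smul, ← algebraMap_smul K c]; exact Submodule.smul_mem _ _ hx
      rw [show a ⊗ₜ[k] ω = a • ((1 : K) ⊗ₜ[k] ω) by rw [TensorProduct.smul_tmul', smul_eq_mul, mul_one]]
      refine Submodule.smul_mem _ a (key ω ?_)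
      refine (Submodule.span_le.mpr ?_) hω
      rintro _ ⟨x, rfl⟩
      exact D_mem_span B (hgen' x)
  obtain ⟨G, hG⟩ := hker
  have hfin : ∀ w : W, ∃ S : Finset k, (S : Set k) ⊆ B ∧ w ∈ Submodule.span K (g '' (S : Set k)) := fun w => by
    obtain ⟨S, hS, hw⟩ := Submodule.mem_span_finite_of_mem_span (htop w)
    obtain ⟨S', hS', rfl⟩ := Finset.subset_set_image_iff.mp hS
    exact ⟨S', hS', by simpa using hw⟩
  choose T hT hTw using hfin
  refine ⟨B, G.biUnion T, hgen', ?_⟩
  rintro _ ⟨a, ⟨haB, haT⟩, rfl⟩ hmem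
  obtain ⟨D, hDa, hD0⟩ := exists_derivation p B hB hgen' a haB
  let Φ : W →ₗ[K] K :=
    (((Algebra.linearMap k K).comp D.liftKaehlerDifferential)).liftBaseChange K
  have hΦ : ∀ c, Φ (g c) = algebraMap k K (D c) := fun c => by
    rw [show Φ = _ from rfl, show g c = _ from rfl, LinearMap.liftBaseChange_tmul, one_smul, LinearMap.comp_apply,
      Derivation.liftKaehlerDifferential_comp_D]
    rfl
  have h1 := D_mem_span _ hmem
  have h2 : KaehlerDifferential.D (ULift.{u} (ZMod p)) K (algebraMap k K a) ∈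
      (Submodule.span K (g '' (B \ {a}))).map mb := by
    refine (Submodule.span_le.mpr ?_) h1
    rintro _ ⟨_, ⟨⟨c, ⟨hcB, -⟩, rfl⟩, hca⟩, rfl⟩
    have hne : c ≠ a := fun h => hca (by rw [h]; exact rfl)
    exact ⟨g c, Submodule.subset_span ⟨c, ⟨hcB, hne⟩, rfl⟩, by rw [show g c = _ from rfl, show mb = _ from rfl, KaehlerDifferential.mapBaseChange_tmul, one_smul, KaehlerDifferential.map_D]⟩
  obtain ⟨w, hw, hwa⟩ := h2
  have hv : g a - w ∈ LinearMap.ker mb := by
    rw [LinearMap.mem_ker, map_sub, hwa, sub_eq_zero]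
    rw [show g a = _ from rfl, show mb = _ from rfl, KaehlerDifferential.mapBaseChange_tmul, one_smul, KaehlerDifferential.map_D]
  have hker0 : ∀ v ∈ Submodule.span K (g '' (B \ {a})), Φ v = 0 := fun v hv => by
    refine LinearMap.mem_ker.mp ((Submodule.span_le.mpr ?_) hv)
    rintro _ ⟨c, ⟨hcB, hne⟩, rfl⟩
    rw [SetLike.mem_coe, LinearMap.mem_ker, hΦ, hD0 c hcB hne, map_zero]
  have hv0 : Φ (g a - w) = 0 := by
    refine hker0 _ ((Submodule.span_le.mpr ?_) (hG.symm ▸ hv))
    intro x hx
    refine (Submodule.span_le.mpr ?_) (hTw x)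
    rintro _ ⟨c, hc, rfl⟩
    refine Submodule.subset_span ⟨c, ⟨hT x hc, fun h => haT ?_⟩, rfl⟩
    rw [Set.mem_singleton_iff] at h
    rw [← h]
    exact Finset.mem_biUnion.mpr ⟨x, hx, hc⟩
  rw [map_sub, hker0 w hw, sub_zero, hΦ, hDa, map_one] at hv0
  exact one_ne_zero hv0

/-- A coefficient field with prescribed values on a `p`-basis of the residue field. -/
theorem exists_section {Λ : Type u} [CommRing Λ] [IsLocalRing Λ] [CharP Λ p] [CharP (ResidueField Λ) p]
    [Algebra (ULift.{u} (ZMod p)) (ResidueField Λ)] (e : ℕ) (he : ∀ x ∈ maximalIdeal Λ, x ^ p ^ e = 0)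
    (B : Set (ResidueField Λ)) (hB : Indep p (ULift.{u} (ZMod p)) B)
    (hgen : ∀ x, x ∈ F p (ULift.{u} (ZMod p)) B) (t : ResidueField Λ → Λ) (ht : ∀ b ∈ B, residue Λ (t b) = b) :
    ∃ σ : ResidueField Λ →+* Λ, (∀ x, residue Λ (σ x) = x) ∧ ∀ b ∈ B, σ b = t b := by
  classical
  let K := ResidueField Λ
  have hx : EGA41.IsPBasis p (ULift.{u} (ZMod p)) (Subtype.val : B → K) :=
    ⟨(isPIndependent_set_iff B).mpr hB, (isPGenerating_iff _).mpr (by rw [Subtype.range_coe]; exact hgen)⟩
  suffices h : ∀ i ≤ e, ∃ h : K →+* Λ, (∀ x, residue Λ (h x) = x ^ p ^ (e - i)) ∧ ∀ b ∈ B, h b = t b ^ p ^ (e - i) by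
    obtain ⟨σ, h1, h2⟩ := h e le_rfl
    exact ⟨σ, fun x => by simpa using h1 x, fun b hb => by simpa using h2 b hb⟩
  intro i hi
  induction i with
  | zero =>
    choose lft hlft using IsLocalRing.residue_surjective (R := Λ)
    have hwd : ∀ a b : Λ, residue Λ a = residue Λ b → a ^ p ^ e = b ^ p ^ e := fun a b hab => by
      rw [← sub_eq_zero, ← sub_pow_char_pow]
      exact he _ ((residue_eq_zero_iff _).mp (by rw [map_sub, hab, sub_self]))
    refine ⟨{ toFun := fun x => lft x ^ p ^ e
              map_one' := by rw [hwd _ 1 (by rw [hlft, map_one]), one_pow]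
              map_mul' := fun x y => by rw [← mul_pow]; exact hwd _ _ (by rw [map_mul, hlft, hlft, hlft])
              map_zero' := by
                rw [hwd _ 0 (by rw [hlft, map_zero]), zero_pow]
                exact pow_ne_zero _ (Fact.out : p.Prime).ne_zero
              map_add' := fun x y => by rw [← add_pow_char_pow]; exact hwd _ _ (by rw [map_add, hlft, hlft, hlft]) },
      fun x => ?_, fun b hb => ?_⟩
    · simp [hlft]
    · rw [Nat.sub_zero]
      exact hwd _ _ (by rw [hlft, ht b hb])
  | succ i ih =>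
    obtain ⟨h, h1, h2⟩ := ih (by omega)
    have hstep : e - i = (e - (i + 1)) + 1 := by omega
    have hroot : ∀ c : EGA41.pPowerSubalgebra p (ULift.{u} (ZMod p)) K, ∃ y : K, y ^ p = c := fun ⟨c, hc⟩ => by
      change ∃ y : K, y ^ p = c
      induction hc using Algebra.adjoin_induction with
      | mem y hy => obtain ⟨z, rfl⟩ := hy; exact ⟨z, rfl⟩
      | algebraMap r =>
        obtain ⟨n, rfl⟩ := exists_natCast_eq p (ULift.{u} (ZMod p)) (RingEquiv.refl _) r
        exact ⟨n, by rw [map_natCast]; exact map_natCast (frobenius K p) n⟩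
      | add y z _ _ hy hz =>
        obtain ⟨a, ha⟩ := hy
        obtain ⟨b, hb⟩ := hz
        exact ⟨a + b, by rw [add_pow_char, ha, hb]⟩
      | mul y z _ _ hy hz =>
        obtain ⟨a, ha⟩ := hy
        obtain ⟨b, hb⟩ := hz
        exact ⟨a * b, by rw [mul_pow, ha, hb]⟩
    choose r hr using hroot
    have hinj : ∀ a b : K, a ^ p = b ^ p → a = b := fun a b hab => frobenius_inj K p hab
    let φ : EGA41.pPowerSubalgebra p (ULift.{u} (ZMod p)) K →+* Λ :=
      h.comp
        { toFun := r
          map_one' := hinj _ _ (by rw [hr, one_pow]; rfl)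
          map_mul' := fun x y => hinj _ _ (by rw [mul_pow, hr, hr, hr]; rfl)
          map_zero' := hinj _ _ (by rw [hr, zero_pow (Fact.out : p.Prime).ne_zero]; rfl)
          map_add' := fun x y => hinj _ _ (by rw [add_pow_char, hr, hr, hr]; rfl) }
    have hφ : ∀ c, φ c = h (r c) := fun _ => rfl
    obtain ⟨ψ, hψC, hψB⟩ := PBasisLib.exists_lift (Fact.out : p.Prime).pos hx φ
      (fun b : B => t b ^ p ^ (e - (i + 1))) (fun b => by
        rw [hφ, show r ⟨(b : K) ^ p, pow_mem (b : K)⟩ = (b : K) from hinj _ _ (hr _), h2 _ b.2, ← pow_mul, hstep, pow_succ])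
    have hres : (residue Λ).comp ψ = (iterateFrobenius K p (e - (i + 1))) := by
      refine PBasisLib.hom_ext (Fact.out : p.Prime).pos hx.2 (fun c => ?_) fun b => ?_
      · rw [RingHom.comp_apply, hψC, hφ, h1, hstep, iterateFrobenius_def, pow_succ, pow_mul']
        rw [hr]
      · rw [RingHom.comp_apply, hψB, map_pow, ht _ b.2, iterateFrobenius_def]
    refine ⟨ψ, fun x => ?_, fun b hb => hψB ⟨b, hb⟩⟩
    have := RingHom.congr_fun hres x
    rwa [RingHom.comp_apply, iterateFrobenius_def] at this

theorem exists_subalgebra {k Λ : Type u} [Field k] [CharP k p] [CommRing Λ] [Algebra k Λ] [IsArtinianRing Λ]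
    [IsLocalRing Λ] (hH : Module.Finite (ResidueField Λ) (Algebra.H1Cotangent k (ResidueField Λ)))
    (E : Finset Λ) :
    ∃ (A : Subalgebra k Λ) (_ : IsLocalRing A), (↑E : Set Λ) ⊆ A ∧ IsArtinianRing A ∧ Module.Flat A Λ ∧
      Algebra.EssFiniteType k A ∧ (maximalIdeal A).map (algebraMap A Λ) = maximalIdeal Λ := by
  classical
  let K := ResidueField Λ
  haveI : CharP Λ p := charP_of_injective_algebraMap (algebraMap k Λ).injective p
  haveI : CharP K p := charP_of_injective_algebraMap (algebraMap k K).injective p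
  letI : Algebra (ULift.{u} (ZMod p)) k :=
    ((ZMod.castHom dvd_rfl k).comp (ULift.ringEquiv (R := ZMod p)).toRingHom).toAlgebra
  letI : Algebra (ULift.{u} (ZMod p)) K :=
    ((ZMod.castHom dvd_rfl K).comp (ULift.ringEquiv (R := ZMod p)).toRingHom).toAlgebra
  haveI : IsScalarTower (ULift.{u} (ZMod p)) k K := IsScalarTower.of_algebraMap_eq fun c => by
    obtain ⟨n, rfl⟩ := exists_natCast_eq p (ULift.{u} (ZMod p)) (RingEquiv.refl _) c
    simp
  obtain ⟨B, T, hgen, hind⟩ := exists_cofinite_indep (k := k) (K := K) p hH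
  obtain ⟨BK, hSBK, -, hBK, hgenK⟩ := PBasisLib.exists_maximal (Set.subset_univ _) hind
  -- lifts with the prescribed values
  choose lft hlft using IsLocalRing.residue_surjective (R := Λ)
  let t : K → Λ := fun x =>
    if h : ∃ b : k, algebraMap k K b = x then algebraMap k Λ h.choose else lft x
  have ht : ∀ x, residue Λ (t x) = x := fun x => by
    simp only [t]
    split
    next h => exact h.choose_spec
    next => exact hlft x
  have htk : ∀ b : k, t (algebraMap k K b) = algebraMap k Λ b := fun b => by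
    have h : ∃ b' : k, algebraMap k K b' = algebraMap k K b := ⟨b, rfl⟩
    simp only [t, dif_pos h]
    rw [(algebraMap k K).injective h.choose_spec]
  obtain ⟨N, hN⟩ : IsNilpotent (maximalIdeal Λ) := by
    rw [← IsLocalRing.jacobson_eq_maximalIdeal (⊥ : Ideal Λ) bot_ne_top]
    exact IsArtinianRing.isNilpotent_jacobson_bot
  have he : ∀ x ∈ maximalIdeal Λ, x ^ p ^ N = 0 := fun x hx => by
    have h0 : x ^ N = 0 := by
      have := Ideal.pow_mem_pow hx N
      rwa [hN] at this
    exact pow_eq_zero_of_le (Nat.le_of_lt (Nat.lt_pow_self (Fact.out : p.Prime).one_lt)) h0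
  obtain ⟨σ, hσ, hσB⟩ := exists_section p N he BK hBK (fun x => hgenK (Set.mem_univ x)) t (fun b _ => ht b)
  letI : Algebra K Λ := σ.toAlgebra
  -- finite dimensionality
  haveI : Module.Finite K Λ := by
    suffices h : ∀ j : ℕ, ∃ F : Finset Λ, ∀ y : Λ, ∃ w ∈ Submodule.span K (F : Set Λ), y - w ∈ maximalIdeal Λ ^ j by
      obtain ⟨F, hF⟩ := h N
      refine ⟨⟨F, eq_top_iff.mpr fun y _ => ?_⟩⟩
      obtain ⟨w, hw, hyw⟩ := hF y
      rw [hN] at hyw
      rw [sub_eq_zero.mp hyw]
      exact hw
    intro j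
    induction j with
    | zero => exact ⟨∅, fun y => ⟨0, zero_mem _, by simp⟩⟩
    | succ j ih =>
      obtain ⟨F, hF⟩ := ih
      obtain ⟨G, hG⟩ := IsNoetherian.noetherian (maximalIdeal Λ ^ j)
      refine ⟨F ∪ G, fun y => ?_⟩
      obtain ⟨w, hw, hyw⟩ := hF y
      have hz : ∀ z ∈ maximalIdeal Λ ^ j, ∃ v ∈ Submodule.span K (G : Set Λ), z - v ∈ maximalIdeal Λ ^ (j + 1) := by
        intro z hz
        rw [← hG] at hz
        obtain ⟨c, -, rfl⟩ := Submodule.mem_span_finset.mp hz
        refine ⟨∑ g ∈ G, residue Λ (c g) • g, sum_mem fun g hg => Submodule.smul_mem _ _ (Submodule.subset_span hg), ?_⟩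
        rw [← Finset.sum_sub_distrib, pow_succ']
        refine sum_mem fun g hg => ?_
        change c g * g - σ (residue Λ (c g)) * g ∈ _
        rw [← sub_mul]
        exact Ideal.mul_mem_mul ((residue_eq_zero_iff _).mp (by rw [map_sub, hσ, sub_self]))
          (hG ▸ Submodule.subset_span hg)
      obtain ⟨v, hv, hzv⟩ := hz _ hyw
      refine ⟨w + v, add_mem (Submodule.span_mono (by simp) hw) (Submodule.span_mono (by simp) hv), ?_⟩
      rwa [← sub_sub]
  let bΛ := Module.finBasis K Λ
  obtain ⟨X, hX⟩ := IsNoetherian.noetherian (maximalIdeal Λ)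
  -- the field of definition
  let data : Finset K :=
    (E ∪ X ∪ T.image (algebraMap k Λ) ∪ {1}).biUnion (fun y => Finset.univ.image fun i => bΛ.repr y i) ∪
      (Finset.univ.biUnion fun i => Finset.univ.biUnion fun j => Finset.univ.image fun h => bΛ.repr (bΛ i * bΛ j) h)
  let L : IntermediateField k K := IntermediateField.adjoin k (data : Set K)
  have hdata : ∀ y ∈ E ∪ X ∪ T.image (algebraMap k Λ) ∪ {1}, ∀ i, bΛ.repr y i ∈ L := fun y hy i =>
    IntermediateField.subset_adjoin k _ (Finset.mem_union_left _ (Finset.mem_biUnion.mpr ⟨y, hy, by simp⟩))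
  have hstr : ∀ i j h, bΛ.repr (bΛ i * bΛ j) h ∈ L := fun i j h =>
    IntermediateField.subset_adjoin k _ (Finset.mem_union_right _ (Finset.mem_biUnion.mpr
      ⟨i, by simp, Finset.mem_biUnion.mpr ⟨j, by simp, by simp⟩⟩))
  let A₀ : Subring Λ :=
    { carrier := {x | ∀ i, bΛ.repr x i ∈ L}
      one_mem' := hdata 1 (by simp)
      zero_mem' := fun i => by simp
      add_mem' := fun hx hy i => by rw [map_add]; exact add_mem (hx i) (hy i)
      neg_mem' := fun hx i => by rw [map_neg]; exact neg_mem (hx i)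
      mul_mem' := fun {x y} hx hy h => by
        rw [← bΛ.sum_repr x, ← bΛ.sum_repr y, Finset.sum_mul_sum, map_sum, Finsupp.finsetSum_apply]
        refine sum_mem fun i _ => ?_
        rw [map_sum, Finsupp.finsetSum_apply]
        refine sum_mem fun j _ => ?_
        rw [smul_mul_smul_comm, map_smul, Finsupp.smul_apply, smul_eq_mul]
        exact mul_mem (mul_mem (hx i) (hy j)) (hstr i j h) }
  have hσL : ∀ l ∈ L, σ l ∈ A₀ := fun l hl i => by
    rw [show σ l = l • (1 : Λ) by rw [Algebra.smul_def, mul_one]; rfl, map_smul, Finsupp.smul_apply, smul_eq_mul]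
    exact mul_mem hl (hdata 1 (by simp) i)
  have hkK : ∀ c : k, algebraMap k K c ∈ L := fun c => L.algebraMap_mem c
  -- the ground field is defined over `L`
  have hdown : ∀ Q : Subring k, (∀ c : k, c ^ p ^ N ∈ Q) → (∀ b ∈ B, b ∈ Q) → ∀ c, c ∈ Q := by
    intro Q hpow hQB
    have key : ∀ j ≤ N, ∀ c : k, c ^ p ^ (N - j) ∈ Q := by
      intro j hj
      induction j with
      | zero => intro c; simpa using hpow c
      | succ j ih =>
        intro c
        let Q' : Subring k := Q.comap (iterateFrobenius k p (N - (j + 1)))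
        suffices hsub : (F p (ULift.{u} (ZMod p)) B : Set k) ⊆ Q' by
          have := hsub (hgen c)
          simpa [Q', iterateFrobenius_def] using this
        intro x hx
        induction hx using Algebra.adjoin_induction with
        | mem y hy =>
          rcases hy with ⟨z, rfl⟩ | hy
          · change (iterateFrobenius k p (N - (j + 1))) (z ^ p) ∈ Q
            rw [iterateFrobenius_def, ← pow_mul, ← pow_succ', show N - (j + 1) + 1 = N - j by omega]
            exact ih (by omega) z
          · change (iterateFrobenius k p (N - (j + 1))) y ∈ Q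
            rw [iterateFrobenius_def]
            exact pow_mem (hQB y hy) _
        | algebraMap r =>
          obtain ⟨n, rfl⟩ := exists_natCast_eq p (ULift.{u} (ZMod p)) (RingEquiv.refl _) r
          rw [map_natCast]
          exact natCast_mem Q' n
        | add y z _ _ hy hz => exact Q'.add_mem hy hz
        | mul y z _ _ hy hz => exact Q'.mul_mem hy hz
    intro c
    simpa using key N le_rfl c
  have hpowN : ∀ c : k, algebraMap k Λ (c ^ p ^ N) = σ (algebraMap k K c) ^ p ^ N := fun c => by
    rw [map_pow, ← sub_eq_zero, ← sub_pow_char_pow]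
    refine he _ ((residue_eq_zero_iff _).mp ?_)
    rw [map_sub, hσ]
    exact sub_self _
  have hS : ∀ b ∈ B, b ∉ T → σ (algebraMap k K b) = algebraMap k Λ b := fun b hb hbT => by
    rw [hσB _ (hSBK ⟨b, ⟨hb, hbT⟩, rfl⟩), htk]
  have hkA : ∀ c : k, algebraMap k Λ c ∈ A₀ := by
    refine hdown (A₀.comap (algebraMap k Λ)) (fun c => ?_) fun b hb => ?_
    · change algebraMap k Λ (c ^ p ^ N) ∈ A₀
      rw [hpowN]
      exact pow_mem (hσL _ (hkK c)) _
    · change algebraMap k Λ b ∈ A₀
      by_cases hbT : b ∈ T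
      · exact hdata _ (by simp [hbT])
      · rw [← hS b hb hbT]
        exact hσL _ (hkK b)
  let A : Subalgebra k Λ := { A₀.toSubsemiring with algebraMap_mem' := hkA }
  have hmemA : ∀ x : Λ, x ∈ A ↔ ∀ i, bΛ.repr x i ∈ L := fun x => Iff.rfl
  let σA : L →+* A := (σ.comp L.val.toRingHom).codRestrict A fun l => hσL l l.2
  letI : Algebra L A := σA.toAlgebra
  letI : Algebra L Λ := (σ.comp L.val.toRingHom).toAlgebra
  haveI : IsScalarTower L K Λ := IsScalarTower.of_algebraMap_eq fun _ => rfl
  haveI : IsScalarTower L A Λ := IsScalarTower.of_algebraMap_eq fun _ => rfl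
  have hsmulA : ∀ (l : L) (a : A), ((l • a : A) : Λ) = (l : K) • (a : Λ) := fun l a => by
    rw [Algebra.smul_def, Algebra.smul_def]; rfl
  have hbA : ∀ i, bΛ i ∈ A := fun i j => by
    rw [bΛ.repr_self, Finsupp.single_apply]
    split
    · exact one_mem L
    · exact zero_mem L
  let v : Fin (Module.finrank K Λ) → A := fun i => ⟨bΛ i, hbA i⟩
  have hvli : LinearIndependent L v := by
    refine Fintype.linearIndependent_iff.mpr fun g hg i => ?_
    have h := congrArg (fun a : A => (a : Λ)) hg
    simp only [AddSubmonoidClass.coe_finsetSum, hsmulA, ZeroMemClass.coe_zero] at h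
    exact Subtype.ext ((Fintype.linearIndependent_iff.mp bΛ.linearIndependent) (fun i => (g i : K)) h i)
  have hvspan : ⊤ ≤ Submodule.span L (Set.range v) := fun a _ => by
    refine (Submodule.mem_span_range_iff_exists_fun L).mpr ⟨fun i => ⟨_, (hmemA a).mp a.2 i⟩, Subtype.ext ?_⟩
    simp only [AddSubmonoidClass.coe_finsetSum, hsmulA]
    exact bΛ.sum_repr (a : Λ)
  let bA : Module.Basis (Fin (Module.finrank K Λ)) L A := Module.Basis.mk hvli hvspan
  haveI : Module.Finite L A := Module.Finite.of_basis bA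
  haveI : IsArtinianRing A := isArtinian_of_tower L inferInstance
  have hunit : ∀ a : A, IsUnit (a : Λ) → IsUnit a := fun a ha => by
    have hinj : Function.Injective (LinearMap.mulLeft L a) := fun x y hxy =>
      Subtype.ext (ha.mul_left_cancel (congrArg (fun z : A => (z : Λ)) hxy))
    obtain ⟨c, hc⟩ := LinearMap.injective_iff_surjective.mp hinj 1
    exact IsUnit.of_mul_eq_one c hc
  haveI : IsLocalRing A := by
    refine IsLocalRing.of_nonunits_add fun {a b} ha hb hab => ?_
    have ha' : (a : Λ) ∈ maximalIdeal Λ := (mem_maximalIdeal _).mpr fun h => ha (hunit a h)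
    have hb' : (b : Λ) ∈ maximalIdeal Λ := (mem_maximalIdeal _).mpr fun h => hb (hunit b h)
    exact (mem_maximalIdeal _).mp (add_mem ha' hb') (hab.map A.val)
  have hXA : ∀ x ∈ X, x ∈ A := fun x hx => (hmemA x).mpr (hdata x (by simp [hx]))
  refine ⟨A, inferInstance, fun x hx => (hmemA x).mpr (hdata x (by simp [Finset.mem_coe.mp hx])), inferInstance,
    ?_, ?_, ?_⟩
  · -- flatness
    let σl : K →ₗ[L] Λ :=
      { toFun := fun x => σ x
        map_add' := map_add σ
        map_smul' := fun l x => by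
          rw [RingHom.id_apply]
          change σ ((l : K) * x) = σ (l : K) * σ x
          exact map_mul σ _ _ }
    let mA : (A ⊗[L] K) →ₗ[A] Λ :=
      TensorProduct.AlgebraTensorModule.lift (LinearMap.toSpanSingleton A (K →ₗ[L] Λ) σl)
    have hmA : ∀ (a : A) (x : K), mA (a ⊗ₜ x) = (a : Λ) * σ x := fun a x => by
      simp [mA, σl, Algebra.smul_def]
    let eqv : (K ⊗[L] A) ≃ₗ[K] Λ := (bA.baseChange K).equiv bΛ (Equiv.refl _)
    have heq : ∀ z, eqv z = mA (TensorProduct.comm L K A z) := by
      intro z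
      induction z using TensorProduct.induction_on with
      | zero => simp
      | add x y hx hy => rw [map_add, map_add, map_add, hx, hy]
      | tmul x a =>
        rw [TensorProduct.comm_tmul, hmA]
        have h1 : x ⊗ₜ[L] a = x • ((1 : K) ⊗ₜ[L] a) := by rw [TensorProduct.smul_tmul', smul_eq_mul, mul_one]
        rw [h1, map_smul, Algebra.smul_def, mul_comm]
        congr 1
        conv_lhs => rw [← bA.sum_repr a]
        rw [TensorProduct.tmul_sum, map_sum]
        conv_rhs => rw [← bA.sum_repr a, AddSubmonoidClass.coe_finsetSum]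
        refine Finset.sum_congr rfl fun i _ => ?_
        rw [show (1 : K) ⊗ₜ[L] ((bA.repr a i) • bA i) = ((bA.repr a i : L) : K) • ((1 : K) ⊗ₜ[L] bA i) by
            rw [TensorProduct.smul_tmul', ← TensorProduct.smul_tmul]; rfl, map_smul, ← Module.Basis.baseChange_apply,
          Module.Basis.equiv_apply, Equiv.refl_apply, hsmulA, Module.Basis.mk_apply]

    have hbij : Function.Bijective mA := by
      have : (mA : A ⊗[L] K → Λ) = eqv ∘ (TensorProduct.comm L K A).symm := funext fun z => by
        simp [heq]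
      rw [this]
      exact eqv.bijective.comp (LinearEquiv.bijective _)
    exact Module.Flat.of_linearEquiv (LinearEquiv.ofBijective mA hbij).symm
  · -- essentially of finite type
    let gens : Finset A := (data ∪ T.image (algebraMap k K)).attach.image (fun l => σA ⟨l.1, by
        rcases Finset.mem_union.mp l.2 with h | h
        · exact IntermediateField.subset_adjoin k _ h
        · obtain ⟨c, -, hc⟩ := Finset.mem_image.mp h
          rw [← hc]
          exact hkK c⟩) ∪ Finset.univ.image v
    let U := Algebra.adjoin k (gens : Set A)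
    have hgA : ∀ l (hl : l ∈ data ∪ T.image (algebraMap k K)) (hlL : l ∈ L), σA ⟨l, hlL⟩ ∈ U := fun l hl hlL =>
      Algebra.subset_adjoin (Finset.mem_union_left _ (Finset.mem_image.mpr ⟨⟨l, hl⟩, Finset.mem_attach _ _, rfl⟩))
    let Q : Subring A :=
      { carrier := {x | ∃ t ∈ U, IsUnit t ∧ x * t ∈ U}
        one_mem' := ⟨1, one_mem U, isUnit_one, by rw [mul_one]; exact one_mem U⟩
        zero_mem' := ⟨1, one_mem U, isUnit_one, by rw [zero_mul]; exact zero_mem U⟩
        add_mem' := fun {x y} ⟨t, ht, htu, hxt⟩ ⟨t', ht', htu', hyt⟩ => ⟨t * t', mul_mem ht ht', htu.mul htu', by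
          rw [show (x + y) * (t * t') = x * t * t' + y * t' * t by ring]
          exact add_mem (mul_mem hxt ht') (mul_mem hyt ht)⟩
        neg_mem' := fun {x} ⟨t, ht, htu, hxt⟩ => ⟨t, ht, htu, by rw [neg_mul]; exact neg_mem hxt⟩
        mul_mem' := fun {x y} ⟨t, ht, htu, hxt⟩ ⟨t', ht', htu', hyt⟩ => ⟨t * t', mul_mem ht ht', htu.mul htu', by
          rw [show x * y * (t * t') = x * t * (y * t') by ring]
          exact mul_mem hxt hyt⟩ }
    have hUQ : ∀ x ∈ U, x ∈ Q := fun x hx => ⟨1, one_mem U, isUnit_one, by rwa [mul_one]⟩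
    have hσk : ∀ c : k, σA ⟨algebraMap k K c, hkK c⟩ ∈ Q := by
      refine hdown (Q.comap (σA.comp ((algebraMap k L)))) (fun c => hUQ _ ?_) fun b hb => hUQ _ ?_
      · have e : σA (algebraMap k L (c ^ p ^ N)) = algebraMap k A (c ^ p ^ N) := Subtype.ext (by
          change σ (algebraMap k K (c ^ p ^ N)) = algebraMap k Λ (c ^ p ^ N)
          rw [hpowN, map_pow, map_pow])
        change σA (algebraMap k L (c ^ p ^ N)) ∈ U
        rw [e]
        exact U.algebraMap_mem _
      · by_cases hbT : b ∈ T
        · exact hgA _ (Finset.mem_union_right _ (Finset.mem_image.mpr ⟨b, hbT, rfl⟩)) _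
        · have e : σA (algebraMap k L b) = algebraMap k A b := Subtype.ext (hS b hb hbT)
          change σA (algebraMap k L b) ∈ U
          rw [e]
          exact U.algebraMap_mem _
    have hLQ : ∀ (l : K) (hl : l ∈ L), σA ⟨l, hl⟩ ∈ Q := by
      intro l hl
      induction hl using IntermediateField.adjoin_induction with
      | mem x hx => exact hUQ _ (hgA x (Finset.mem_union_left _ hx) _)
      | algebraMap c => exact hσk c
      | add x y hx hy ihx ihy =>
        rw [show (⟨x + y, _⟩ : L) = ⟨x, hx⟩ + ⟨y, hy⟩ from rfl, map_add]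
        exact Q.add_mem ihx ihy
      | mul x y hx hy ihx ihy =>
        rw [show (⟨x * y, _⟩ : L) = ⟨x, hx⟩ * ⟨y, hy⟩ from rfl, map_mul]
        exact Q.mul_mem ihx ihy
      | inv x hx ihx =>
        rw [show (⟨x⁻¹, _⟩ : L) = (⟨x, hx⟩ : L)⁻¹ from rfl]
        rcases eq_or_ne (⟨x, hx⟩ : L) 0 with h | h
        · rw [h, inv_zero, map_zero]
          exact Q.zero_mem
        · obtain ⟨t, ht, htu, hxt⟩ := ihx
          refine ⟨σA ⟨x, hx⟩ * t, hxt, ((IsUnit.mk0 _ h).map σA).mul htu, ?_⟩
          rw [← mul_assoc, ← map_mul, inv_mul_cancel₀ h, map_one, one_mul]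
          exact ht
    refine (Algebra.essFiniteType_iff k A).mpr ⟨gens, fun a => ?_⟩
    suffices ha : a ∈ Q from ha
    rw [← bA.sum_repr a]
    refine Q.sum_mem fun i _ => ?_
    rw [Algebra.smul_def, Module.Basis.mk_apply]
    exact Q.mul_mem (hLQ _ (bA.repr a i).2) (hUQ _ (Algebra.subset_adjoin (Finset.mem_union_right _ (by simp))))
  · refine le_antisymm (Ideal.map_le_iff_le_comap.mpr fun a ha => ?_) ?_
    · change (a : Λ) ∈ maximalIdeal Λ
      exact (mem_maximalIdeal _).mpr fun h => (mem_maximalIdeal _).mp ha (hunit a h)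
    · rw [← hX, Ideal.span_le]
      intro x hx
      refine Ideal.mem_map_of_mem (algebraMap A Λ) (x := (⟨x, hXA x hx⟩ : A)) ?_
      refine (mem_maximalIdeal _).mpr fun h => ?_
      have hxm : x ∈ maximalIdeal Λ := hX ▸ Submodule.subset_span hx
      exact (mem_maximalIdeal _).mp hxm (h.map A.val)

end Groth.Agent.ArtinDef
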